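import Cfsg.Agent.H735.EB.TwRow
import Cfsg.Agent.H694.EB.TwoChain

/-!
# The row `²F₄(q)`, `q ≥ 8`, of S4522 and S4515 (helper735)
-/

set_option autoImplicit false

namespace Cfsg.Agent.H735.EB

open Cfsg

universe u

/-- criterion (T) -/
theorem evenJ_of_twData {S : Type u} [Group S] [Finite S] (h : CharTwo S) (h' : TwData S) : H684.EB.EvenJ S := by
  obtain ⟨U, V, hU, hUi, hVU, hne, hst, hodd⟩ := h'
  exact H694.EB.evenJ_of_two (dz_of_charTwo h) U V hU hUi hVU hne hst hodd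

/-- **The row of `²F₄(q)`.** -/
theorem evenJ_2F4 {S : Type u} [Group S] (h : Lie.Iso2F4 S) : H684.EB.EvenJ S := by
  obtain ⟨hf, h1, h2⟩ := TwF4.both h
  exact evenJ_of_twData h1 h2

end Cfsg.Agent.H735.EB
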