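import Cfsg.Agent.EvenType.ChevTwoTits

/-!
# The involutions of the Tits group
-/

set_option autoImplicit false

namespace Cfsg.Agent.H735.EBTits

open Cfsg

universe u v

theorem good_of_equiv {G : Type u} [Group G] (D : TitsK.TData G) [Finite G] {S : Type v} [Group S]
    [Finite S] (e : S ≃* ↥D.T) (t : S) (ht : orderOf t = 2) : OddHalf.Small.Crit.Good t := by
  have h0 : orderOf (e t) = 2 := (MulEquiv.orderOf_eq e t).trans ht
  have h1 := EvenType.ChevTwoTits.good D h0
  have h2 := OddHalf.Small.Crit.good_map e.symm h1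
  have h3 : e.symm (e t) = t := e.symm_apply_apply t
  rw [h3] at h2
  exact h2

theorem good_S {S : Type u} [Group S] [Finite S] (h : Lie.IsoTits S) (t : S) (ht : orderOf t = 2) :
    OddHalf.Small.Crit.Good t := by
  obtain ⟨e1⟩ := h
  obtain ⟨e2⟩ := Cfsg.Agent.TitsK.exists_equiv
  exact good_of_equiv Cfsg.Agent.TitsK.tdata (e1.trans e2) t ht

end Cfsg.Agent.H735.EBTits
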