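import Cfsg.Agent.H735.EB.TitsRow
import Cfsg.Agent.H684.EB.SporTab
import Cfsg.Agent.H783.PglSpor

/-!
# S4522, the row of the Tits group, in the form of the table
-/

set_option autoImplicit false

namespace Cfsg.Agent.H735.EBTits

open Cfsg

universe u

/-- **The row of the Tits group.** -/
theorem evenJ_tits {S : Type u} [Group S] [Finite S] [IsSimpleGroup S] (h : Lie.IsoTits S) :
    Cfsg.Agent.H684.EB.EvenJ S := by
  have h1 : (MulAut.conj : S →* MulAut S).range.index ∣ 2 := Cfsg.Agent.H783.PglSpor.index_tits h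
  have h2 : (MulAut.conj : S →* MulAut S).range.index ≠ 0 := Subgroup.index_ne_zero_of_finite
  exact Cfsg.Agent.H684.EB.evenJ_of_index (Nat.le_of_dvd (by norm_num) h1) h2 (evenB_tits h)

end Cfsg.Agent.H735.EBTits
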